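import Cfsg.Agent.ClassicalGeometry.PSL2Solvable
import Cfsg.Agent.S0799
set_option linter.all false

/-!
# Maximality criterion in `PSL(2, q)` from Dickson's list (helper948)

* `isCoatom_of`: a proper subgroup `H` of `PSL(2, q)` which is neither metacyclic nor has
  commutators all of exponent `p` is maximal as soon as no subgroup `M > H` is isomorphic to
  `A_4` or `S_4`, and every `M > H` isomorphic to `A_5`, `PSL(2, q₁)` or `PGL(2, q₁)` is the
  whole group.
-/

set_option autoImplicit false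

namespace Cfsg.Agent.H948.PSLMax

open Cfsg.Agent.LieClassical.SLTwoUnipotent Cfsg.Agent.ClassicalGeometry.PSL2Basic
open Cfsg.Agent.ClassicalGeometry.PSL2Solvable
open scoped commutatorElement

/-- Commutators of a dihedral group generate normal subgroups which are inverted or
centralised. -/
theorem dihedral_comm {k : ℕ} (a b g : DihedralGroup k) :
    g * ⁅a, b⁆ * g⁻¹ = ⁅a, b⁆ ∨ g * ⁅a, b⁆ * g⁻¹ = ⁅a, b⁆⁻¹ := by
  have h : ∃ i, ⁅a, b⁆ = DihedralGroup.r i := by
    rcases a with a | a <;> rcases b with b | b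
    · exact ⟨0, by simp [commutatorElement_def]⟩
    all_goals simp [commutatorElement_def]
  obtain ⟨i, hi⟩ := h
  rw [hi]
  rcases g with g | g
  · left
    simp
  · right
    simp

/-- A group with an injection into a dihedral group has this property too. -/
theorem comm_of_dihedral {G : Type*} [Group G] {k : ℕ} (f : G →* DihedralGroup k)
    (hf : Function.Injective f) (a b g : G) :
    g * ⁅a, b⁆ * g⁻¹ = ⁅a, b⁆ ∨ g * ⁅a, b⁆ * g⁻¹ = ⁅a, b⁆⁻¹ := by
  rcases dihedral_comm (f a) (f b) (f g) with h | h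
  · left
    apply hf
    simpa [map_commutatorElement] using h
  · right
    apply hf
    simpa [map_commutatorElement] using h

section

variable {F : Type*} [Field F]

/-- The upper left entry on the Borel subgroup, as a homomorphism; its kernel consists of
unipotent matrices. -/
theorem comm_mem_upperUnip (c d : Matrix.SpecialLinearGroup (Fin 2) F)
    (hc : c ∈ borel F) (hd : d ∈ borel F) : ⁅c, d⁆ ∈ upperUnipSL F := by
  have hdet : ∀ c : borel F, (c : Matrix.SpecialLinearGroup (Fin 2) F) 0 0 *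
      (c : Matrix.SpecialLinearGroup (Fin 2) F) 1 1 = 1 := by
    intro c
    have h1 : (c : Matrix.SpecialLinearGroup (Fin 2) F) 0 0 * (c : Matrix.SpecialLinearGroup (Fin 2) F) 1 1 -
      (c : Matrix.SpecialLinearGroup (Fin 2) F) 0 1 * (c : Matrix.SpecialLinearGroup (Fin 2) F) 1 0 = 1 := by
      rw [← Matrix.det_fin_two, Matrix.SpecialLinearGroup.det_coe]
    rw [mem_borel_iff.mp c.2, mul_zero, sub_zero] at h1
    exact h1
  let g : borel F →* Fˣ :=
    { toFun := fun c => ⟨(c : Matrix.SpecialLinearGroup (Fin 2) F) 0 0,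
        (c : Matrix.SpecialLinearGroup (Fin 2) F) 1 1, hdet c, by rw [mul_comm]; exact hdet c⟩
      map_one' := by
        apply Units.ext
        simp
      map_mul' := fun a b => by
        apply Units.ext
        have hb := mem_borel_iff.mp b.2
        change ((a : Matrix.SpecialLinearGroup (Fin 2) F) * (b : Matrix.SpecialLinearGroup (Fin 2) F)) 0 0 = _
        rw [Matrix.SpecialLinearGroup.coe_mul, Matrix.mul_apply, Fin.sum_univ_two, hb, mul_zero, add_zero]
        rfl }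
  set x : borel F := ⁅(⟨c, hc⟩ : borel F), ⟨d, hd⟩⁆ with hx
  have hgx : g x = 1 := by
    rw [hx, map_commutatorElement, commutatorElement_eq_one_iff_mul_comm, mul_comm]
  have h1 : (x : Matrix.SpecialLinearGroup (Fin 2) F) 0 0 = 1 := congrArg Units.val hgx
  have h2 := hdet x
  rw [h1, one_mul] at h2
  have h3 := mem_borel_iff.mp x.2
  have h4 : (x : Matrix.SpecialLinearGroup (Fin 2) F) ∈ upperUnipSL F :=
    mem_upperUnipSL_iff.mpr ⟨h1, h3, h2⟩
  exact h4

theorem pow_char_of_mem_upperUnip (p : ℕ) [CharP F p] {v : Matrix.SpecialLinearGroup (Fin 2) F}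
    (hv : v ∈ upperUnipSL F) : v ^ p = 1 := by
  obtain ⟨x, rfl⟩ := mem_upperUnipSL_iff_exists.mp hv
  have : ∀ n : ℕ, (u x : Matrix.SpecialLinearGroup (Fin 2) F) ^ n = u ((n : F) * x) := by
    intro n
    induction n with
    | zero => simp [u_zero]
    | succ n ih => rw [pow_succ, ih, ← u_add]; congr 1; push_cast; ring
  rw [this, CharP.cast_eq_zero, zero_mul, u_zero]

/-- Commutators in the normaliser of a Sylow subgroup in the defining characteristic have
exponent `p`. -/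
theorem comm_pow_char [Fintype F] (p : ℕ) [Fact p.Prime] [CharP F p]
    (P : Sylow p (Matrix.ProjectiveSpecialLinearGroup (Fin 2) F))
    (a b : Matrix.ProjectiveSpecialLinearGroup (Fin 2) F)
    (ha : a ∈ Subgroup.normalizer ((P : Subgroup (Matrix.ProjectiveSpecialLinearGroup (Fin 2) F)) :
        Set (Matrix.ProjectiveSpecialLinearGroup (Fin 2) F)))
    (hb : b ∈ Subgroup.normalizer ((P : Subgroup (Matrix.ProjectiveSpecialLinearGroup (Fin 2) F)) :
        Set (Matrix.ProjectiveSpecialLinearGroup (Fin 2) F))) : ⁅a, b⁆ ^ p = 1 := by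
  obtain ⟨g, hg⟩ := exists_le_map_borel p P
  obtain ⟨_, ⟨c, hc, rfl⟩, rfl⟩ := hg ha
  obtain ⟨_, ⟨d, hd, rfl⟩, rfl⟩ := hg hb
  rw [← map_commutatorElement, ← map_commutatorElement, ← map_pow, ← map_pow,
    pow_char_of_mem_upperUnip p (comm_mem_upperUnip c d hc hd), map_one, map_one]

/-- The maximality criterion. -/
theorem isCoatom_of [Fintype F] (p : ℕ) [Fact p.Prime] [CharP F p]
    (H : Subgroup (Matrix.ProjectiveSpecialLinearGroup (Fin 2) F)) (hne : H ≠ ⊤)
    (hdi : ¬ (Group.IsSolvable H ∧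
      ∀ a b g : H, g * ⁅a, b⁆ * g⁻¹ = ⁅a, b⁆ ∨ g * ⁅a, b⁆ * g⁻¹ = ⁅a, b⁆⁻¹))
    (hbo : ¬ (Group.IsSolvable H ∧ ∀ a b : H, ⁅a, b⁆ ^ p = 1))
    (h4 : ∀ M, H < M → ¬ Nonempty (M ≃* alternatingGroup (Fin 4)))
    (h5 : ∀ M, H < M → ¬ Nonempty (M ≃* Equiv.Perm (Fin 4)))
    (h6 : ∀ M, H < M → Nonempty (M ≃* alternatingGroup (Fin 5)) → M = ⊤)
    (hsub : ∀ M, H < M → ∀ (K : Type) (_ : Field K) (_ : Fintype K) (m : ℕ),
      Fintype.card K ^ m = Fintype.card F →
      (Nonempty (M ≃* Matrix.ProjectiveSpecialLinearGroup (Fin 2) K) ∨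
        Nonempty (M ≃* Matrix.ProjGenLinGroup (Fin 2) K)) → M = ⊤) : IsCoatom H := by
  refine ⟨hne, fun M hM => ?_⟩
  rcases Cfsg.Agent.S0799.result (F := F) rfl p M with
    ⟨k, -, h | ⟨⟨e⟩⟩⟩ | ⟨P, K, hK, ⟨e⟩⟩ | h | h | h | ⟨K, iK, iKf, m, hm, h⟩
  · exfalso
    apply hdi
    have hc : IsCyclic M := h.1
    have hcomm : ∀ x y : H, x * y = y * x := by
      intro x y
      have h2 := hc.isMulCommutative.is_comm.comm (⟨x, hM.le x.2⟩ : M) (⟨y, hM.le y.2⟩ : M)
      exact Subtype.ext (by simpa using congrArg Subtype.val h2)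
    refine ⟨Group.isSolvable_of_comm hcomm, fun a b g => ?_⟩
    left
    have h1 : ⁅a, b⁆ = 1 := commutatorElement_eq_one_iff_mul_comm.mpr (hcomm a b)
    rw [h1]
    simp
  · exfalso
    apply hdi
    have hinj : Function.Injective (e.toMonoidHom.comp (Subgroup.inclusion hM.le)) :=
      e.injective.comp (Subgroup.inclusion_injective hM.le)
    have hsol := isSolvable_dihedral k
    exact ⟨Group.isSolvable_of_isSolvable_injective hinj, comm_of_dihedral _ hinj⟩
  · exfalso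
    apply hbo
    have hinj : Function.Injective (e.toMonoidHom.comp (Subgroup.inclusion hM.le)) :=
      e.injective.comp (Subgroup.inclusion_injective hM.le)
    have hsol := isSolvable_of_le_normalizer p P K hK
    refine ⟨Group.isSolvable_of_isSolvable_injective hinj, fun a b => ?_⟩
    apply hinj
    rw [map_pow, map_commutatorElement, map_one]
    apply Subtype.ext
    have h1 := comm_pow_char p P _ _ (hK (e.toMonoidHom.comp (Subgroup.inclusion hM.le) a).2)
      (hK (e.toMonoidHom.comp (Subgroup.inclusion hM.le) b).2)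
    exact h1
  · exact absurd h (h4 M hM)
  · exact absurd h (h5 M hM)
  · exact h6 M hM h
  · exact hsub M hM K iK iKf m hm h

/-- A group containing a copy of `A_4` has a commutator of order two which is moved by some
element. -/
theorem exists_wit {G : Type*} [Group G] (f : alternatingGroup (Fin 4) →* G)
    (hf : Function.Injective f) :
    ∃ a b g : G, ⁅a, b⁆ ≠ 1 ∧ ⁅a, b⁆ ^ 2 = 1 ∧ g * ⁅a, b⁆ * g⁻¹ ≠ ⁅a, b⁆ := by
  have hA : ∃ a b g : alternatingGroup (Fin 4), ⁅a, b⁆ ≠ 1 ∧ ⁅a, b⁆ ^ 2 = 1 ∧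
      g * ⁅a, b⁆ * g⁻¹ ≠ ⁅a, b⁆ := by decide +kernel
  obtain ⟨a, b, g, hab1, hab2, hg⟩ := hA
  refine ⟨f a, f b, f g, ?_, ?_, ?_⟩
  · intro h
    apply hab1
    apply hf
    rw [map_commutatorElement, h, map_one]
  · rw [← map_commutatorElement, ← map_pow, hab2, map_one]
  · intro h
    apply hg
    apply hf
    rw [map_mul, map_mul, map_inv, map_commutatorElement, h]

/-- The criterion for a subgroup containing a copy of `A_4`, in odd characteristic. -/
theorem isCoatom_of_wit [Fintype F] (p : ℕ) [Fact p.Prime] [CharP F p] (hodd : Odd p)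
    (H : Subgroup (Matrix.ProjectiveSpecialLinearGroup (Fin 2) F)) (hne : H ≠ ⊤)
    (hw : ∃ a b g : H, ⁅a, b⁆ ≠ 1 ∧ ⁅a, b⁆ ^ 2 = 1 ∧ g * ⁅a, b⁆ * g⁻¹ ≠ ⁅a, b⁆)
    (h4 : ∀ M, H < M → ¬ Nonempty (M ≃* alternatingGroup (Fin 4)))
    (h5 : ∀ M, H < M → ¬ Nonempty (M ≃* Equiv.Perm (Fin 4)))
    (h6 : ∀ M, H < M → Nonempty (M ≃* alternatingGroup (Fin 5)) → M = ⊤)
    (hsub : ∀ M, H < M → ∀ (K : Type) (_ : Field K) (_ : Fintype K) (m : ℕ),
      Fintype.card K ^ m = Fintype.card F →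
      (Nonempty (M ≃* Matrix.ProjectiveSpecialLinearGroup (Fin 2) K) ∨
        Nonempty (M ≃* Matrix.ProjGenLinGroup (Fin 2) K)) → M = ⊤) : IsCoatom H := by
  obtain ⟨a', b', g', h1, h2, h3⟩ := hw
  refine isCoatom_of p H hne ?_ ?_ h4 h5 h6 hsub
  · rintro ⟨-, h⟩
    rcases h a' b' g' with h4 | h4
    · exact h3 h4
    · apply h3
      rw [h4, inv_eq_iff_mul_eq_one, ← pow_two]
      exact h2
  · rintro ⟨-, h⟩
    apply h1
    have h4 := h a' b'
    obtain ⟨k, hk⟩ := hodd
    rw [hk, pow_succ, pow_mul, h2, one_pow, one_mul] at h4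
    exact h4

/-- The criterion for a non-solvable subgroup. -/
theorem isCoatom_of_not_solvable [Fintype F] (p : ℕ) [Fact p.Prime] [CharP F p]
    (H : Subgroup (Matrix.ProjectiveSpecialLinearGroup (Fin 2) F)) (hne : H ≠ ⊤)
    (hns : ¬ Group.IsSolvable H)
    (h6 : ∀ M, H < M → Nonempty (M ≃* alternatingGroup (Fin 5)) → M = ⊤)
    (hsub : ∀ M, H < M → ∀ (K : Type) (_ : Field K) (_ : Fintype K) (m : ℕ),
      Fintype.card K ^ m = Fintype.card F →
      (Nonempty (M ≃* Matrix.ProjectiveSpecialLinearGroup (Fin 2) K) ∨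
        Nonempty (M ≃* Matrix.ProjGenLinGroup (Fin 2) K)) → M = ⊤) : IsCoatom H := by
  have key : ∀ M, H < M → Nat.card M ∣ 72 → False := by
    intro M hM h72
    have hsol := Cfsg.Agent.LieClassical.Order72.isSolvable_of_card_dvd h72
    exact hns (Group.isSolvable_of_isSolvable_injective (Subgroup.inclusion_injective hM.le))
  refine isCoatom_of p H hne (fun h => hns h.1) (fun h => hns h.1) ?_ ?_ h6 hsub
  · rintro M hM ⟨e⟩
    apply key M hM
    rw [Nat.card_congr e.toEquiv, Nat.card_eq_fintype_card,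
      show Fintype.card (alternatingGroup (Fin 4)) = 12 by decide +kernel]
    norm_num
  · rintro M hM ⟨e⟩
    apply key M hM
    rw [Nat.card_congr e.toEquiv, Nat.card_eq_fintype_card,
      show Fintype.card (Equiv.Perm (Fin 4)) = 24 by decide +kernel]
    norm_num

end

/-! ### Arithmetic -/

/-- If `p ^ (2a) - 1` divides `2 (p ^ (2b) - 1)` then `a` divides `b`. -/
theorem dvd_of_card_dvd {p a b : ℕ} (hp : 2 ≤ p) (ha : 1 ≤ a)
    (h : p ^ (2 * a) - 1 ∣ 2 * (p ^ (2 * b) - 1)) : a ∣ b := by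
  set c := Nat.gcd a b with hc
  have hc0 : 0 < c := Nat.gcd_pos_of_pos_left _ ha
  have hg : Nat.gcd (p ^ (2 * a) - 1) (p ^ (2 * b) - 1) = p ^ (2 * c) - 1 := by
    rw [Nat.pow_sub_one_gcd_pow_sub_one, Nat.gcd_mul_left]
  have hle : p ^ (2 * a) - 1 ≤ 2 * (p ^ (2 * c) - 1) := by
    have h1 : p ^ (2 * a) - 1 ∣ 2 * (p ^ (2 * c) - 1) := by
      rw [← hg, ← Nat.gcd_mul_left]
      exact Nat.dvd_gcd (Dvd.intro_left _ rfl) h
    apply Nat.le_of_dvd _ h1
    have : 1 < p ^ (2 * c) := Nat.one_lt_pow (by omega) (by omega)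
    omega
  have hca : c = a := by
    by_contra hne
    obtain ⟨k, hk⟩ : c ∣ a := Nat.gcd_dvd_left a b
    have hk2 : 2 ≤ k := by
      rcases k with _ | _ | k
      · omega
      · omega
      · omega
    have h2 : 2 * c ≤ a := by
      rw [hk]
      nlinarith
    have h3 : p ^ (2 * c) ≤ p ^ a := Nat.pow_le_pow_right (by omega) h2
    have h4 : p ^ (2 * a) = p ^ a * p ^ a := by rw [two_mul, pow_add]
    have h5 : 2 ≤ p ^ a := le_trans hp (Nat.le_self_pow (by omega) p)
    rw [h4] at hle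
    have h6 : 1 ≤ p ^ (2 * c) := Nat.one_le_pow _ _ (by omega)
    obtain ⟨x, hx⟩ : ∃ x, p ^ a = x + 2 := ⟨p ^ a - 2, by omega⟩
    rw [hx] at hle h3
    have h7 : (x + 2) * (x + 2) ≤ 2 * (x + 1) + 1 := by omega
    nlinarith
  rw [← hca]
  exact Nat.gcd_dvd_right a b

section cards

variable {F : Type*} [Field F] [Fintype F]

theorem card_psl_dvd_pgl (K : Type*) [Field K] [Fintype K] :
    Nat.card (Matrix.ProjectiveSpecialLinearGroup (Fin 2) K) ∣
      Nat.card (Matrix.ProjGenLinGroup (Fin 2) K) := by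
  rw [card_PGL2, ← card_PSL2_gcd]
  exact Dvd.intro _ rfl

theorem card_pgl_dvd_two_mul_psl (K : Type*) [Field K] [Fintype K] :
    Nat.card (Matrix.ProjGenLinGroup (Fin 2) K) ∣
      2 * Nat.card (Matrix.ProjectiveSpecialLinearGroup (Fin 2) K) := by
  rw [card_PGL2, ← card_PSL2_gcd, mul_comm 2]
  exact Nat.mul_dvd_mul_left _ (Nat.gcd_dvd_left _ _)

theorem card_pgl_pos (K : Type*) [Field K] [Fintype K] :
    0 < Nat.card (Matrix.ProjGenLinGroup (Fin 2) K) := by
  rw [card_PGL2]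
  have h1 : 1 < Fintype.card K := Fintype.one_lt_card
  apply Nat.mul_pos (by omega)
  have : 2 ^ 2 ≤ Fintype.card K ^ 2 := Nat.pow_le_pow_left h1 2
  omega

/-- From `|PSL(2, p ^ a)| ∣ |PGL(2, p ^ b)|` to `a ∣ b`. -/
theorem dvd_of_card_psl_dvd {K₀ K : Type*} [Field K₀] [Fintype K₀] [Field K] [Fintype K]
    {p a b : ℕ} (hp : p.Prime) (ha : Fintype.card K₀ = p ^ a) (hb : Fintype.card K = p ^ b)
    (h : Nat.card (Matrix.ProjectiveSpecialLinearGroup (Fin 2) K₀) ∣
      Nat.card (Matrix.ProjGenLinGroup (Fin 2) K)) : a ∣ b := by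
  have ha1 : 1 ≤ a := by
    by_contra hcon
    have : a = 0 := by omega
    rw [this, pow_zero] at ha
    have := Fintype.one_lt_card (α := K₀)
    omega
  apply dvd_of_card_dvd hp.two_le ha1
  have h1 : Nat.card (Matrix.ProjGenLinGroup (Fin 2) K₀) ∣
      2 * Nat.card (Matrix.ProjGenLinGroup (Fin 2) K) :=
    (card_pgl_dvd_two_mul_psl K₀).trans (Nat.mul_dvd_mul_left _ h)
  rw [card_PGL2, card_PGL2, ha, hb, ← pow_mul, ← pow_mul, mul_comm a 2, mul_comm b 2] at h1
  have h2 : p ^ (2 * a) - 1 ∣ p ^ b * (2 * (p ^ (2 * b) - 1)) := by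
    refine (Dvd.intro_left _ rfl).trans (h1.trans (dvd_of_eq ?_))
    ring
  refine (Nat.Coprime.dvd_of_dvd_mul_left ?_ h2)
  apply Nat.Coprime.pow_right
  rw [Nat.coprime_comm, hp.coprime_iff_not_dvd]
  intro h3
  have h4 : p ∣ p ^ (2 * a) := dvd_pow_self p (by omega)
  have h5 := (Nat.dvd_sub_iff_right (Nat.one_le_pow _ _ hp.pos) h4).mp h3
  exact hp.one_lt.ne' (Nat.dvd_one.mp h5)

/-- A subgroup isomorphic to `PSL(2, K)` or `PGL(2, K)` with `|K| = |F|` is the whole group. -/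
theorem eq_top_of_card_eq {K : Type*} [Field K] [Fintype K]
    (M : Subgroup (Matrix.ProjectiveSpecialLinearGroup (Fin 2) F))
    (hK : Fintype.card K = Fintype.card F)
    (h : Nonempty (M ≃* Matrix.ProjectiveSpecialLinearGroup (Fin 2) K) ∨
        Nonempty (M ≃* Matrix.ProjGenLinGroup (Fin 2) K)) : M = ⊤ := by
  apply Subgroup.eq_top_of_le_card
  rcases h with ⟨⟨e⟩⟩ | ⟨⟨e⟩⟩
  · rw [Nat.card_congr e.toEquiv, card_PSL2_div, card_PSL2_div, hK]
  · rw [Nat.card_congr e.toEquiv]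
    have h1 : Nat.card (Matrix.ProjGenLinGroup (Fin 2) K) =
        Nat.card (Matrix.ProjGenLinGroup (Fin 2) F) := by
      rw [card_PGL2, card_PGL2, hK]
    rw [h1]
    exact Nat.le_of_dvd (card_pgl_pos F) (card_psl_dvd_pgl F)

/-- A subgroup of `PSL(2, F)` is not isomorphic to a group of the order of `PGL(2, F)`, `q` odd. -/
theorem card_psl_mono {K₀ K : Type*} [Field K₀] [Fintype K₀] [Field K] [Fintype K]
    {r : ℕ} (hr : 2 ≤ r) (h : Fintype.card K₀ ^ r = Fintype.card K) :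
    Nat.card (Matrix.ProjGenLinGroup (Fin 2) K₀) <
      Nat.card (Matrix.ProjectiveSpecialLinearGroup (Fin 2) K) := by
  have h1 := Nat.le_of_dvd (Nat.mul_pos two_pos Nat.card_pos) (card_pgl_dvd_two_mul_psl K)
  rw [card_PGL2] at h1 ⊢
  set q := Fintype.card K₀ with hq
  have hq1 : 2 ≤ q := Fintype.one_lt_card
  have h2 : q ^ 2 ≤ Fintype.card K := by
    rw [← h]
    exact Nat.pow_le_pow_right (by omega) hr
  have h3 : q ^ 2 * ((q ^ 2) ^ 2 - 1) ≤ Fintype.card K * (Fintype.card K ^ 2 - 1) :=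
    Nat.mul_le_mul h2 (Nat.sub_le_sub_right (Nat.pow_le_pow_left h2 2) 1)
  have h4 : 2 * (q * (q ^ 2 - 1)) < q ^ 2 * ((q ^ 2) ^ 2 - 1) := by
    obtain ⟨x, hx⟩ : ∃ x, q = x + 2 := ⟨q - 2, by omega⟩
    rw [hx]
    have e1 : (x + 2) ^ 2 - 1 = x ^ 2 + 4 * x + 3 := by
      apply Nat.sub_eq_of_eq_add; ring
    have e2 : ((x + 2) ^ 2) ^ 2 - 1 = (x ^ 2 + 4 * x + 3) * (x ^ 2 + 4 * x + 5) := by
      apply Nat.sub_eq_of_eq_add; ring
    rw [e1, e2]
    have h5 : 0 < (x + 2) * (x ^ 2 + 4 * x + 3) := by positivity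
    calc 2 * ((x + 2) * (x ^ 2 + 4 * x + 3)) = ((x + 2) * (x ^ 2 + 4 * x + 3)) * 2 := by ring
      _ < ((x + 2) * (x ^ 2 + 4 * x + 3)) * ((x + 2) * (x ^ 2 + 4 * x + 5)) := by
        apply Nat.mul_lt_mul_of_pos_left _ h5
        nlinarith
      _ = _ := by ring
  omega

/-- The two possibilities for a subfield between. -/
theorem card_eq_or_eq {K₀ K : Type*} [Field K₀] [Fintype K₀] [Field K] [Fintype K]
    {r m : ℕ} (hr : r.Prime) (hF : Fintype.card F = Fintype.card K₀ ^ r)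
    (hK : Fintype.card K ^ m = Fintype.card F)
    (h : Nat.card (Matrix.ProjectiveSpecialLinearGroup (Fin 2) K₀) ∣
      Nat.card (Matrix.ProjGenLinGroup (Fin 2) K)) :
    Fintype.card K = Fintype.card K₀ ∨ Fintype.card K = Fintype.card F := by
  obtain ⟨p, hp⟩ := CharP.exists K₀
  obtain ⟨a, hpp, ha⟩ := FiniteField.card K₀ p
  obtain ⟨p', hp'⟩ := CharP.exists K
  obtain ⟨b, hpp', hb⟩ := FiniteField.card K p'
  have hpe : p' = p := by
    have h1 : p' ∣ Fintype.card F := by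
      rw [← hK]
      apply dvd_pow
      · rw [hb]
        exact dvd_pow_self _ b.2.ne'
      · rintro rfl
        rw [pow_zero] at hK
        have := Fintype.one_lt_card (α := F)
        omega
    rw [hF, ha, ← pow_mul] at h1
    exact (Nat.prime_dvd_prime_iff_eq hpp' hpp).mp (hpp'.dvd_of_dvd_pow h1)
  subst hpe
  have hab := dvd_of_card_psl_dvd hpp ha hb h
  obtain ⟨c, hc⟩ := hab
  rw [hF, hb, ha, ← pow_mul, ← pow_mul] at hK
  have h2 := Nat.pow_right_injective hpp.two_le hK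
  rw [hc, mul_assoc] at h2
  have h3 := Nat.eq_of_mul_eq_mul_left a.2 h2
  rcases (Nat.dvd_prime hr).mp (Dvd.intro _ h3) with h4 | h4
  · left
    rw [hb, ha, hc, h4, mul_one]
  · right
    rw [hF, hb, ha, hc, h4, pow_mul]

end cards

end Cfsg.Agent.H948.PSLMax
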