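import Cfsg.Agent.H948.SynLie
import Cfsg.Agent.H163.PG.Few_m3
import Cfsg.Agent.H163.PG.PslAut
import Cfsg.Agent.H171.PGL2
import Cfsg.Agent.S2468
import Cfsg.Agent.S2475
import Cfsg.Agent.S2476
import Cfsg.Agent.FastGrp
import Cfsg.Agent.Prune
set_option linter.all false
prune_inst 0x7f00000000000000000000000000000000000000000000000000000000000000000000000000000000000000000000000000000000000000000000000000000000000000000000000000000000000000003fffffffffffffffffffffffffffbeffbdffffffff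
open scoped Cfsg.Agent.FastGrp

-- part: H948/SynThree
section
/-!
# S4286: three pairwise non-adjacent primes (helper948)

Two primes on the same side are adjacent in the prime graph, so a group with three pairwise non-adjacent primes
is dead.
-/

set_option autoImplicit false

namespace Cfsg.Agent.H948.Syn

open Cfsg.Agent.H163.PG (Adj Has3 Has3Out)

universe u

variable {G : Type u} [Group G]

/-- non-adjacent primes are on opposite sides -/
theorem Cfg.opp_of_not_adj' [Finite G] {S : Set ℕ} (h : Cfg G S) {r s : ℕ} (hr : r.Prime) (hs : s.Prime) (hrs : r ≠ s)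
    (hrG : r ∣ Nat.card G) (hsG : s ∣ Nat.card G) (hn : ¬ Adj G r s) : ¬ (r ∈ S ↔ s ∈ S) :=
  h.opp_of_not_adj hr hs hrG hsG fun _ _ hx hy hxy => hn (H163.PG.adj_of_commute hr hs hrs hx hy hxy)

/-- **a group with three pairwise non-adjacent primes is dead** -/
theorem Cfg.false_of_has3 [Finite G] {S : Set ℕ} (h : Cfg G S) (h3 : Has3 G) : False := by
  obtain ⟨p, q, r, hp, hq, hr, hpq, hqr, hpr, hpG, hqG, hrG, n1, n2, n3⟩ := h3
  have h1 := h.opp_of_not_adj' hp hq hpq hpG hqG n1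
  have h2 := h.opp_of_not_adj' hq hr hqr hqG hrG n2
  have h3 := h.opp_of_not_adj' hp hr hpr hpG hrG n3
  (clear * - h1 h2 h3; tauto)

theorem Cfg.false_of_has3Out [Finite G] {S : Set ℕ} (h : Cfg G S) (h3 : Has3Out G) : False := by
  obtain ⟨p, q, r, hp, hq, hr, hpq, hqr, hpr, hpG, hqG, hrG, n1, n2, n3, -⟩ := h3
  exact h.false_of_has3 ⟨p, q, r, hp, hq, hr, hpq, hqr, hpr, hpG, hqG, hrG, n1, n2, n3⟩

end Cfsg.Agent.H948.Syn
end

-- part: H948/SynSpor
section
/-!
# S4286: tools for the sporadic groups (helper948)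

* `opp_of_norm`  : `N(T) ≤ M`, `T` a Sylow 2-subgroup, `t ^ k` divides `|G|` and not `|M|`: `t` is opposite to `2`;
* `norm_le_cent` : `N(T) ≤ C(z)` if `Z(T) = {1, z}`;
* `hZ_of`        : `Z(T) = {1, z}` from a normal 2-subgroup of `C(z)` with centralizer `{1, z}`;
* `false_of_num` : the number of Sylow `r`-subgroups divides a number without divisors `d ≡ 1 (mod r)`, `d ≠ 1`.
-/

set_option autoImplicit false

namespace Cfsg.Agent.H948.SynSpor

open Subgroup Cfsg.Agent.H948.Syn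
open Cfsg.Agent.H163.PG (Adj Has3 Has3Out)

universe u

variable {G : Type u} [Group G]

theorem opp_of_norm [Finite G] {S : Set ℕ} (h : Cfg G S) {p : ℕ} (hp : p.Prime) (hpG : p ∣ Nat.card G)
    (T : Sylow p G) {M : Subgroup G} (hN : normalizer ((T : Subgroup G) : Set G) ≤ M) {t k : ℕ} (ht : t.Prime)
    (hk : t ^ k ∣ Nat.card G) (hM : ¬ t ^ k ∣ Nat.card M) : ¬ (t ∈ S ↔ p ∈ S) := by
  have := Fact.mk hp
  have := Fact.mk ht
  intro hs
  obtain ⟨Q, hQ⟩ := h.exists_norm (s := t) hpG hs.symm T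
  refine hM (Dvd.dvd.trans ?_ (card_dvd_of_le (hQ.trans hN)))
  rw [Q.card_eq_multiplicity]
  exact pow_dvd_pow t ((ht.pow_dvd_iff_le_factorization Nat.card_pos.ne').1 hk)

/-- self-normalising Sylow `p`-subgroups -/
theorem opp_of_selfN [Finite G] {S : Set ℕ} (h : Cfg G S) {p : ℕ} (hp : p.Prime) (hpG : p ∣ Nat.card G)
    (T : Sylow p G) (hN : normalizer ((T : Subgroup G) : Set G) ≤ T) {t : ℕ} (ht : t.Prime)
    (htp : t ≠ p) (htG : t ∣ Nat.card G) : ¬ (t ∈ S ↔ p ∈ S) := by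
  have := Fact.mk hp
  refine opp_of_norm h hp hpG T hN (k := 1) ht (by rwa [pow_one]) ?_
  rw [pow_one]
  intro h1
  obtain ⟨n, hn⟩ := IsPGroup.iff_card.1 T.2
  rw [hn] at h1
  exact htp ((Nat.prime_dvd_prime_iff_eq ht hp).1 (ht.dvd_of_dvd_pow h1))

theorem norm_le_cent {p : ℕ} {T : Subgroup G} {z : G} (hz : z ∈ T) (hz1 : z ≠ 1)
    (hc : ∀ x ∈ T, x * z = z * x) (hZ : ∀ y ∈ T, (∀ x ∈ T, x * y = y * x) → y = 1 ∨ y = z) :
    normalizer (T : Set G) ≤ centralizer ({z} : Set G) := by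
  intro g hg
  rw [mem_centralizer_singleton_iff]
  have h1 : g * z * g⁻¹ ∈ T := (mem_normalizer_iff.1 hg z).1 hz
  rcases hZ _ h1 (fun x hx => by
    have h2 : g⁻¹ * x * g ∈ T := (mem_normalizer_iff''.1 hg x).1 hx
    have h3 := hc _ h2
    calc x * (g * z * g⁻¹) = g * ((g⁻¹ * x * g) * z) * g⁻¹ := by group
      _ = g * (z * (g⁻¹ * x * g)) * g⁻¹ := by rw [h3]
      _ = g * z * g⁻¹ * x := by group) with h4 | h4
  · exfalso
    apply hz1
    have : z = g⁻¹ * (g * z * g⁻¹) * g := by group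
    rw [this, h4]; group
  · calc g * z = g * z * g⁻¹ * g := by group
      _ = z * g := by rw [h4]

/-- `Z(T) = {1, z}` if `C(z)` normalises a 2-subgroup whose centralizer in `C(z)` is `{1, z}` -/
theorem hZ_of [Finite G] {z : G} (Q : Subgroup G) (hQ : IsPGroup 2 Q)
    (hn : ∀ g, g * z = z * g → ∀ q ∈ Q, g * q * g⁻¹ ∈ Q)
    (hc : ∀ y, y * z = z * y → (∀ q ∈ Q, y * q = q * y) → y = 1 ∨ y = z) :
    ∀ T : Sylow 2 G, z ∈ (T : Subgroup G) → (∀ x ∈ (T : Subgroup G), x * z = z * x) →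
      ∀ y ∈ (T : Subgroup G), (∀ x ∈ (T : Subgroup G), x * y = y * x) → y = 1 ∨ y = z := by
  intro T _ hTz y hy hyc
  have h1 : (T : Subgroup G) ≤ normalizer (Q : Set G) := by
    intro g hg
    rw [mem_normalizer_iff]
    intro x
    constructor
    · exact hn g (hTz g hg) x
    · intro hx
      have h2 := hn g⁻¹ (hTz _ ((T : Subgroup G).inv_mem hg)) _ hx
      have e : g⁻¹ * (g * x * g⁻¹) * g⁻¹⁻¹ = x := by group
      rwa [e] at h2
  have h2 : IsPGroup 2 ((T : Subgroup G) ⊔ Q : Subgroup G) := IsPGroup.to_sup_of_normal_right' T.2 hQ h1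
  have h3 := T.is_maximal' h2 le_sup_left
  have h4 : Q ≤ (T : Subgroup G) := h3 ▸ (le_sup_right : Q ≤ _)
  exact hc y (hTz y hy) fun q hq => (hyc q (h4 hq)).symm

/-- numerical elimination -/
theorem false_of_num [Finite G] {S : Set ℕ} (h : Cfg G S) {r : ℕ} (hr : r.Prime) {A B : ℕ}
    (hAB : Nat.card G = A * B) (hrB : r ∣ B) (hB : ∀ t, t.Prime → t ∣ B → (t ∈ S ↔ r ∈ S))
    (hA : ∀ d, d ∣ A → d % r = 1 → d = 1) : False := by
  have := Fact.mk hr
  have := h.simple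
  have hrG : r ∣ Nat.card G := by rw [hAB]; exact hrB.mul_left A
  have h1 : (Nat.card (Sylow r G)).Coprime B := by
    refine Nat.coprime_of_dvd fun t ht h2 h3 => ?_
    exact h.opp_of_dvd hr ht h2 (hB t ht h3).symm
  have h2 : Nat.card (Sylow r G) ∣ A := by
    refine h1.dvd_of_dvd_mul_right ?_
    rw [← hAB]
    exact Cfg.card_sylow_dvd
  exact card_sylow_ne_one h.nonab hrG (hA _ h2 Cfg.mod_eq)

theorem num_pow {p a r : ℕ} (hp : p.Prime) (h : ∀ i ≤ a, p ^ i % r = 1 → i = 0) :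
    ∀ d, d ∣ p ^ a → d % r = 1 → d = 1 := by
  intro d hd h1
  obtain ⟨i, hi, rfl⟩ := (Nat.dvd_prime_pow hp).1 hd
  rw [h i hi h1, pow_zero]

/-- all primes of a list are opposite to `2`, and `|G| = A * B` with `B` a product of such primes -/
theorem false_of_list [Finite G] {S : Set ℕ} (h : Cfg G S) {L : List ℕ} (hL : ∀ t ∈ L, t.Prime)
    (hopp : ∀ t ∈ L, ¬ (t ∈ S ↔ 2 ∈ S)) {A B k : ℕ} (hAB : Nat.card G = A * B) (hB : B ∣ L.prod ^ k) {r : ℕ}
    (hr : r ∈ L) (hrB : r ∣ B) (hA : ∀ d, d ∣ A → d % r = 1 → d = 1) : False := by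
  refine false_of_num h (hL r hr) hAB hrB (fun t ht htB => ?_) hA
  have h1 : t ∣ L.prod := ht.dvd_of_dvd_pow (htB.trans hB)
  obtain ⟨l, hl, htl⟩ := (Nat.Prime.prime ht).dvd_prod_iff.1 h1
  have h2 : t = l := (Nat.prime_dvd_prime_iff_eq ht (hL l hl)).1 htl
  subst h2
  have h3 := hopp t hl
  have h4 := hopp r hr
  (clear * - h3 h4; tauto)

/-- a group with self-normalising Sylow 2-subgroups -/
theorem false_of_selfN [Finite G] {S : Set ℕ} (h : Cfg G S) (hN : ∀ T : Sylow 2 G,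
    normalizer ((T : Subgroup G) : Set G) ≤ T) {a B r : ℕ} (hG : Nat.card G = 2 ^ a * B) (ha : a ≠ 0) (hB : ¬ 2 ∣ B)
    (hr : r.Prime) (hrB : r ∣ B) (hnum : ∀ i ≤ a, 2 ^ i % r = 1 → i = 0) : False := by
  have := Fact.mk Nat.prime_two
  obtain ⟨T⟩ : Nonempty (Sylow 2 G) := inferInstance
  have h2G : 2 ∣ Nat.card G := by rw [hG]; exact (dvd_pow_self 2 ha).mul_right B
  have key : ∀ t : ℕ, t.Prime → t ∣ B → ¬ (t ∈ S ↔ 2 ∈ S) := by
    intro t ht htB
    refine opp_of_selfN h Nat.prime_two h2G T (hN T) ht ?_ (by rw [hG]; exact htB.mul_left _)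
    rintro rfl
    exact hB htB
  refine false_of_num h hr hG hrB (fun t ht htB => ?_) (num_pow Nat.prime_two hnum)
  have h3 := key t ht htB
  have h4 := key r hr hrB
  (clear * - h3 h4; tauto)

/-- a `2`-central involution with `Z(T) = {1, z}`: the odd primes with `t ^ k ∣ |G|`, `t ^ k ∤ |C(z)|` are opposite to
`2` -/
theorem opp_of_cent [Finite G] {S : Set ℕ} (h : Cfg G S) {z : G} (hz1 : z ≠ 1) (hz : z * z = 1)
    (hZ : ∀ T : Sylow 2 G, z ∈ (T : Subgroup G) → (∀ x ∈ (T : Subgroup G), x * z = z * x) →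
      ∀ y ∈ (T : Subgroup G), (∀ x ∈ (T : Subgroup G), x * y = y * x) → y = 1 ∨ y = z)
    {c a : ℕ} (hc : Nat.card (centralizer ({z} : Set G)) = c) (h2c : 2 ^ a ∣ c) (h2G : ¬ 2 ^ (a + 1) ∣ Nat.card G)
    {t k : ℕ} (ht : t.Prime) (hk : t ^ k ∣ Nat.card G) (hM : ¬ t ^ k ∣ c) : ¬ (t ∈ S ↔ 2 ∈ S) := by
  have := Fact.mk Nat.prime_two
  have hoz : orderOf z = 2 := orderOf_eq_prime (by rw [pow_two]; exact hz) hz1
  have h2 : 2 ∣ Nat.card G := hoz ▸ _root_.orderOf_dvd_natCard z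
  -- a Sylow `2`-subgroup of `C(z)`
  obtain ⟨Q⟩ : Nonempty (Sylow 2 (centralizer ({z} : Set G))) := inferInstance
  obtain ⟨T, hT⟩ := (Q.2.map (centralizer ({z} : Set G)).subtype).exists_le_sylow
  have hcQ : Nat.card (Q : Subgroup (centralizer ({z} : Set G))) =
      Nat.card ((Q : Subgroup (centralizer ({z} : Set G))).map (centralizer ({z} : Set G)).subtype) :=
    (Nat.card_congr (Subgroup.equivMapOfInjective _ _ (Subgroup.subtype_injective _)).toEquiv)
  have h3 : 2 ^ a ∣ Nat.card (Q : Subgroup (centralizer ({z} : Set G))) := by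
    rw [Q.card_eq_multiplicity]
    refine pow_dvd_pow 2 ((Nat.prime_two.pow_dvd_iff_le_factorization Nat.card_pos.ne').1 ?_)
    rw [hc]; exact h2c
  have h4 : (T : Subgroup G) ≤ (Q : Subgroup (centralizer ({z} : Set G))).map (centralizer ({z} : Set G)).subtype := by
    have h5 : Nat.card (T : Subgroup G) ≤ 2 ^ a := by
      obtain ⟨n, hn⟩ := IsPGroup.iff_card.1 T.2
      rw [hn]
      refine Nat.pow_le_pow_right two_pos ?_
      by_contra hcon
      apply h2G
      have : 2 ^ n ∣ Nat.card G := hn ▸ Subgroup.card_subgroup_dvd_card (T : Subgroup G)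
      exact (pow_dvd_pow 2 (by omega)).trans this
    have h6 := eq_of_le_of_card_ge hT (by
      rw [← hcQ]
      exact h5.trans (Nat.le_of_dvd Nat.card_pos h3))
    exact h6.ge
  have hTc : ∀ x ∈ (T : Subgroup G), x * z = z * x := by
    intro x hx
    obtain ⟨y, -, rfl⟩ := h4 hx
    exact mem_centralizer_singleton_iff.1 y.2
  have hzT : z ∈ (T : Subgroup G) := by
    have h5 : IsPGroup 2 (zpowers z) := IsPGroup.of_card (n := 1) (by rw [Nat.card_zpowers, hoz, pow_one])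
    have h6 : zpowers z ≤ normalizer ((T : Subgroup G) : Set G) := by
      rw [zpowers_le, mem_normalizer_iff]
      intro x
      have key : ∀ y ∈ (T : Subgroup G), z * y * z⁻¹ = y := fun y hy => by
        rw [← hTc y hy, mul_inv_cancel_right]
      constructor
      · intro hx
        rwa [key x hx]
      · intro hx
        have e : x = z⁻¹ * (z * x * z⁻¹) * z := by group
        have e2 : z⁻¹ * (z * x * z⁻¹) * z = z * x * z⁻¹ := by
          rw [mul_assoc, hTc _ hx]; group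
        rw [e, e2]
        exact hx
    have h7 : IsPGroup 2 ((T : Subgroup G) ⊔ zpowers z : Subgroup G) :=
      IsPGroup.to_sup_of_normal_left' T.2 h5 h6
    have h8 := T.is_maximal' h7 le_sup_left
    exact h8 ▸ (le_sup_right : zpowers z ≤ _) (mem_zpowers z)
  exact opp_of_norm h Nat.prime_two h2 T (norm_le_cent (p := 2) hzT hz1 hTc (hZ T hzT hTc)) ht hk (by rw [hc]; exact hM)

end Cfsg.Agent.H948.SynSpor
end

-- part: H948/SynPSL
section
/-!
# S4286: the groups `PSL_n(q)` (helper948)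
-/

set_option autoImplicit false

namespace Cfsg.Agent.H948.SynPSL

open Subgroup Cfsg Cfsg.Agent.H948.Syn Cfsg.Agent.H163.PG

universe u

variable {G : Type u} [Group G]

/-- two non-adjacent primes different from the characteristic -/
theorem false_lie [Finite G] {S : Set ℕ} (h : Cfg G S) {p : ℕ} (hp : p.Prime) (hL : IsLieTypeChar p G) {r s : ℕ}
    (hr : r.Prime) (hs : s.Prime) (hrs : r ≠ s) (hrG : r ∣ Nat.card G) (hsG : s ∣ Nat.card G) (hrp : r ≠ p)
    (hsp : s ≠ p) (hn : ¬ Adj G r s) : False :=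
  SynLie.false_of_two h hp hL hr hs hrG hsG hrp hsp fun _ _ hx hy hxy => hn (adj_of_commute hr hs hrs hx hy hxy)

theorem ne_of_dvd_sub {p f r : ℕ} (hp : p.Prime) (hf : 1 ≤ f) (hr : r.Prime) (h : r ∣ p ^ f - 1) : r ≠ p := by
  rintro rfl
  have h1 : r ∣ r ^ f := dvd_pow_self r (by omega)
  have h2 : r ∣ r ^ f - (r ^ f - 1) := Nat.dvd_sub h1 h
  have h3 : 1 ≤ r ^ f := Nat.one_le_pow _ _ hr.pos
  rw [show r ^ f - (r ^ f - 1) = 1 by omega] at h2
  exact hr.one_lt.ne' (Nat.dvd_one.1 h2)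

theorem ne_of_dvd_add {p f r m : ℕ} (hf : 1 ≤ f) (hr : r.Prime) (h : r ∣ p ^ f * m + 1) : r ≠ p := by
  rintro rfl
  have h1 : r ∣ r ^ f * m := Dvd.dvd.mul_right (dvd_pow_self r (by omega)) m
  exact hr.one_lt.ne' (Nat.dvd_one.1 ((Nat.dvd_add_right h1).1 h))

theorem dvd_of_range {H : Type*} [Group H] [Finite H] {A : Set ℕ} (h : Set.range (orderOf : H → ℕ) = A) {r : ℕ}
    (hr : r ∈ A) : r ∣ Nat.card H := by
  rw [← h] at hr
  obtain ⟨x, rfl⟩ := hr
  exact _root_.orderOf_dvd_natCard x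

/-- `PSL_2(q)` -/
theorem two {F : Type} [Field F] [Fintype F] {p f : ℕ} (hp : p.Prime) (hf : 1 ≤ f) (hF : Fintype.card F = p ^ f)
    (h4 : 4 ≤ Fintype.card F) {S : Set ℕ} (h : Cfg (Matrix.ProjectiveSpecialLinearGroup (Fin 2) F) S)
    (hL : IsLieTypeChar p (Matrix.ProjectiveSpecialLinearGroup (Fin 2) F)) : False := by
  have := Fact.mk hp
  have hc := charP_of hp hF
  have hspec := S2475.result (F := F) p h4
  set q := Fintype.card F with hq
  set d := Nat.gcd 2 (q - 1) with hd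
  have hd0 : 0 < d := Nat.gcd_pos_of_pos_left _ two_pos
  have hd1 : d ∣ q - 1 := Nat.gcd_dvd_right _ _
  have hd2 : d ∣ 2 := Nat.gcd_dvd_left _ _
  have hd3 : d ∣ q + 1 := by
    have h1 := Nat.dvd_add hd1 hd2
    rwa [show q - 1 + 2 = q + 1 by omega] at h1
  obtain ⟨a, ha⟩ := hd1
  obtain ⟨b, hb⟩ := hd3
  have ea : (q - 1) / d = a := by rw [ha, Nat.mul_div_cancel_left _ hd0]
  have eb : (q + 1) / d = b := by rw [hb, Nat.mul_div_cancel_left _ hd0]
  have hd12 : d = 1 ∨ d = 2 := (Nat.dvd_prime Nat.prime_two).1 hd2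
  have ha1 : a ≠ 1 := by
    rintro rfl
    rcases hd12 with h1 | h1 <;> omega
  have hb1 : b ≠ 1 := by
    rintro rfl
    rcases hd12 with h1 | h1 <;> omega
  obtain ⟨r, hr, hra⟩ := Nat.exists_prime_and_dvd ha1
  obtain ⟨s, hs, hsb⟩ := Nat.exists_prime_and_dvd hb1
  have hco : ∀ t : ℕ, t.Prime → t ∣ a → t ∣ b → False := by
    intro t ht h1 h2
    rcases hd12 with h3 | h3
    · have h4 : t ∣ q - 1 := by rw [ha]; exact h1.mul_left d
      have h5 : t ∣ q + 1 := by rw [hb]; exact h2.mul_left d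
      have h6 := Nat.dvd_sub h5 h4
      rw [show q + 1 - (q - 1) = 2 by omega] at h6
      have h7 := (Nat.prime_dvd_prime_iff_eq ht Nat.prime_two).1 h6
      rw [h7] at h4
      have h8 : 2 ∣ d := Nat.dvd_gcd dvd_rfl h4
      rw [h3] at h8
      omega
    · have h4 : b = a + 1 := by rw [h3] at ha hb; (clear * - ha hb; omega)
      have h5 := Nat.dvd_sub h2 h1
      rw [h4, Nat.add_sub_cancel_left] at h5
      exact ht.one_lt.ne' (Nat.dvd_one.1 h5)
  have hrs : r ≠ s := by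
    rintro rfl
    exact hco r hr hra hsb
  have hrp : r ≠ p := ne_of_dvd_sub (f := f) hp hf hr (by rw [← hF, ha]; exact hra.mul_left d)
  have hsp : s ≠ p := ne_of_dvd_add (f := f) (m := 1) hf hs (by rw [← hF, mul_one, hb]; exact hsb.mul_left d)
  have hfin : Finite (Matrix.ProjectiveSpecialLinearGroup (Fin 2) F) := finite_psl 2
  refine false_lie h hp hL hr hs hrs (dvd_of_range hspec (Or.inr (Or.inl ?_)))
    (dvd_of_range hspec (Or.inr (Or.inr ?_))) hrp hsp ?_
  · rw [ea]; exact hra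
  · rw [eb]; exact hsb
  · rintro ⟨g, hg⟩
    have h1 : r * s ∈ Set.range (orderOf : Matrix.ProjectiveSpecialLinearGroup (Fin 2) F → ℕ) := ⟨g, hg⟩
    rw [hspec] at h1
    rcases h1 with h1 | h1 | h1
    · exact hrp ((Nat.prime_dvd_prime_iff_eq hr hp).1 ((Dvd.intro s rfl).trans h1))
    · rw [ea] at h1
      exact hco s hs ((Dvd.intro_left r rfl).trans h1) hsb
    · rw [eb] at h1
      exact hco r hr hra ((Dvd.intro s rfl).trans h1)

/-- `PSL_3(q)` -/
theorem three {F : Type} [Field F] [Fintype F] {p f : ℕ} (hp : p.Prime) (hf : 1 ≤ f) (hF : Fintype.card F = p ^ f)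
    {S : Set ℕ} (h : Cfg (Matrix.ProjectiveSpecialLinearGroup (Fin 3) F) S)
    (hL : IsLieTypeChar p (Matrix.ProjectiveSpecialLinearGroup (Fin 3) F)) : False := by
  have := Fact.mk hp
  have hc := charP_of hp hF
  have hspec := S2476.result (F := F) p
  set q := Fintype.card F with hq
  have hq2 : 2 ≤ q := Fintype.one_lt_card
  set d := Nat.gcd 3 (q - 1) with hd
  have hd0 : 0 < d := Nat.gcd_pos_of_pos_left _ three_pos
  have hd13 : d = 1 ∨ d = 3 := (Nat.dvd_prime Nat.prime_three).1 (Nat.gcd_dvd_left _ _)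
  have hd1 : d ∣ q - 1 := Nat.gcd_dvd_right _ _
  have hd2 : d ∣ q ^ 2 + q + 1 := by
    rcases hd13 with h1 | h1
    · rw [h1]; exact one_dvd _
    · rw [h1] at hd1 ⊢
      obtain ⟨t, ht⟩ := hd1
      have : q = 3 * t + 1 := by omega
      exact ⟨3 * t ^ 2 + 3 * t + 1, by rw [this]; ring⟩
  obtain ⟨a, ha⟩ := hd2
  have ea : (q ^ 2 + q + 1) / d = a := by rw [ha, Nat.mul_div_cancel_left _ hd0]
  have h3a : ¬ 3 ∣ a := by
    rintro ⟨c, rfl⟩
    have h9 : 3 ∣ q ^ 2 + q + 1 := ⟨d * c, by rw [ha]; ring⟩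
    have hq3 : q % 3 = 1 := by
      have h1 : (q ^ 2 + q + 1) % 3 = 0 := Nat.mod_eq_zero_of_dvd h9
      have h2 : q % 3 < 3 := Nat.mod_lt _ three_pos
      rw [Nat.add_mod, Nat.add_mod (q ^ 2), Nat.pow_mod] at h1
      interval_cases hq' : q % 3
      · norm_num at h1
      · rfl
      · norm_num at h1
    have hd3 : d = 3 := by
      refine hd13.resolve_left fun h1 => ?_
      have h2 : 3 ∣ d := Nat.dvd_gcd dvd_rfl (by (clear * - hq3; omega))
      omega
    obtain ⟨t, ht⟩ : ∃ t, q = 3 * t + 1 := ⟨q / 3, by omega⟩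
    rw [hd3, ht] at ha
    have h5 : 9 * t ^ 2 + 9 * t + 3 = 9 * c := by
      have : (3 * t + 1) ^ 2 + (3 * t + 1) + 1 = 9 * t ^ 2 + 9 * t + 3 := by ring
      rw [← this, ha]; ring
    omega
  have ha1 : a ≠ 1 := by
    rintro rfl
    rcases hd13 with h1 | h1
    · rw [h1] at ha; linarith only [hq2, ha, _root_.sq_nonneg (↑q : ℤ)]
    · rw [h1] at ha; nlinarith only [hq2, ha]
  obtain ⟨r, hr, hra⟩ := Nat.exists_prime_and_dvd ha1
  obtain ⟨s, hs, hsb⟩ := Nat.exists_prime_and_dvd (show q + 1 ≠ 1 by omega)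
  have hrN : r ∣ q ^ 2 + q + 1 := by rw [ha]; exact hra.mul_left d
  have hr3 : r ≠ 3 := by rintro rfl; exact h3a hra
  have hsN : ¬ s ∣ q ^ 2 + q + 1 := by
    intro h1
    have h2 : s ∣ q * (q + 1) := hsb.mul_left q
    have h3 := (Nat.dvd_add_right h2).1 (by rwa [show q * (q + 1) + 1 = q ^ 2 + q + 1 by ring])
    exact hs.one_lt.ne' (Nat.dvd_one.1 h3)
  have hrq1 : ¬ r ∣ q - 1 := by
    intro h1
    have h2 : r ∣ (q - 1) * (q + 2) := h1.mul_right _
    have h3 : (q - 1) * (q + 2) + 3 = q ^ 2 + q + 1 := by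
      obtain ⟨t, ht⟩ : ∃ t, q = t + 1 := ⟨q - 1, by omega⟩
      rw [ht, Nat.add_sub_cancel]; ring
    have h4 := (Nat.dvd_add_right h2).1 (by rwa [h3])
    exact hr3 ((Nat.prime_dvd_prime_iff_eq hr Nat.prime_three).1 h4)
  have hrq2 : ¬ r ∣ q + 1 := by
    intro h1
    have h2 : r ∣ q * (q + 1) := h1.mul_left q
    have h3 := (Nat.dvd_add_right h2).1 (by rwa [show q * (q + 1) + 1 = q ^ 2 + q + 1 by ring])
    exact hr.one_lt.ne' (Nat.dvd_one.1 h3)
  have hsq : q ^ 2 - 1 = (q + 1) * (q - 1) := by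
    have := Nat.sq_sub_sq q 1
    simpa only [_root_.one_pow] using this
  have hrs : r ≠ s := by
    rintro rfl
    exact hsN hrN
  have hrp : r ≠ p := ne_of_dvd_add (f := f) (m := q + 1) hf hr
    (by rw [← hF, show q * (q + 1) + 1 = q ^ 2 + q + 1 by ring]; exact hrN)
  have hsp : s ≠ p := ne_of_dvd_add (f := f) (m := 1) hf hs (by rw [← hF, mul_one]; exact hsb)
  have hfin : Finite (Matrix.ProjectiveSpecialLinearGroup (Fin 3) F) := finite_psl 3
  have hrr : r ∣ Nat.card (Matrix.ProjectiveSpecialLinearGroup (Fin 3) F) :=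
    dvd_of_range hspec (Or.inl (by rw [ea]; exact hra))
  have hss : s ∣ Nat.card (Matrix.ProjectiveSpecialLinearGroup (Fin 3) F) := by
    have h1 : (q ^ 2 - 1) / d ∣ Nat.card (Matrix.ProjectiveSpecialLinearGroup (Fin 3) F) :=
      dvd_of_range hspec (Or.inr (Or.inl dvd_rfl))
    refine Dvd.dvd.trans ?_ h1
    obtain ⟨c, hc⟩ := hd1
    rw [hsq, hc, show (q + 1) * (d * c) = d * ((q + 1) * c) by ring, Nat.mul_div_cancel_left _ hd0]
    exact hsb.mul_right c
  refine false_lie h hp hL hr hs hrs hrr hss hrp hsp ?_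
  rintro ⟨g, hg⟩
  have h1 : r * s ∈ Set.range (orderOf : Matrix.ProjectiveSpecialLinearGroup (Fin 3) F → ℕ) := ⟨g, hg⟩
  rw [hspec] at h1
  rcases h1 with h1 | h1 | h1 | h1 | ⟨-, h1⟩
  · rw [ea] at h1
    exact hsN (((Dvd.intro_left r rfl).trans h1).trans (by rw [ha]; exact Dvd.intro_left d rfl))
  · have h2 : r ∣ (q ^ 2 - 1) / d := (Dvd.intro s rfl).trans h1
    have h3 : r ∣ q ^ 2 - 1 := h2.trans (Nat.div_dvd_of_dvd (by rw [hsq]; exact hd1.mul_left _))
    rw [hsq] at h3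
    rcases hr.dvd_mul.1 h3 with h4 | h4
    · exact hrq2 h4
    · exact hrq1 h4
  · exact hrq1 ((Dvd.intro s rfl).trans h1)
  · have h2 : r ∣ p * (q - 1) / d := (Dvd.intro s rfl).trans h1
    have h3 : r ∣ p * (q - 1) := h2.trans (Nat.div_dvd_of_dvd (hd1.mul_left _))
    rcases hr.dvd_mul.1 h3 with h4 | h4
    · exact hrp ((Nat.prime_dvd_prime_iff_eq hr hp).1 h4)
    · exact hrq1 h4
  · have e4 : (4 : ℕ) = 2 ^ 2 := by norm_num
    rw [e4] at h1
    have hr2 := (Nat.prime_dvd_prime_iff_eq hr Nat.prime_two).1 (hr.dvd_of_dvd_pow ((Dvd.intro s rfl).trans h1))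
    have hs2 := (Nat.prime_dvd_prime_iff_eq hs Nat.prime_two).1 (hs.dvd_of_dvd_pow ((Dvd.intro_left r rfl).trans h1))
    exact hrs (hr2.trans hs2.symm)

/-- `PSL_4(q)` -/
theorem four {F : Type} [Field F] [Fintype F] {p f : ℕ} (hp : p.Prime) (hf : 1 ≤ f) (hF : Fintype.card F = p ^ f)
    {S : Set ℕ} (h : Cfg (Matrix.ProjectiveSpecialLinearGroup (Fin 4) F) S)
    (hL : IsLieTypeChar p (Matrix.ProjectiveSpecialLinearGroup (Fin 4) F)) : False := by
  have := Fact.mk hp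
  have hc := charP_of hp hF
  obtain ⟨r, hr, hor, -, hrp, hr2⟩ := exists_rk (p := p) (f := f) (k := 3) hp hf (by omega) (by omega)
  obtain ⟨s, hs, hos, -, hsp, hs2⟩ := exists_rk (p := p) (f := f) (k := 4) hp hf (by omega) (by omega)
  rw [← hF] at hor hos
  have hrs : r ≠ s := by
    rintro rfl
    omega
  have hrG := dvd_psl (F := F) (n := 4) hr hor (by omega) (by omega)
  have hsG := dvd_psl (F := F) (n := 4) hs hos (by omega) (by omega)
  have hfin : Finite (Matrix.ProjectiveSpecialLinearGroup (Fin 4) F) := finite_psl 4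
  refine false_lie h hp hL hr hs hrs hrG hsG hrp hsp ?_
  rintro ⟨g, hg⟩
  exact (S2468.result (F := F) p 4 (by omega) (by omega) r s hr hs hr2 hs2 hrp hsp hrs hrG hsG 3 4 hor.symm hos.symm
    (by omega) (by omega)).2 ⟨by omega, by omega⟩ ⟨g, hg⟩

/-- **all groups `PSL_n(q)`** -/
theorem isPSL [Finite G] {S : Set ℕ} (h : Cfg G S) (hG : IsPSL G) : False := by
  obtain ⟨F, _, _, n, hn, h4, ⟨e⟩⟩ := hG
  obtain ⟨p, f, hp, hf, hF⟩ := exists_pf F
  have hc := charP_of hp hF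
  have h' := h.congr e
  have hfin : Finite (Matrix.ProjectiveSpecialLinearGroup (Fin n) F) := finite_psl n
  have hL : IsLieTypeChar p (Matrix.ProjectiveSpecialLinearGroup (Fin n) F) :=
    Or.inl ⟨F, inferInstance, inferInstance, hc, n, hn, h4, ⟨MulEquiv.refl _⟩⟩
  rcases (show n = 2 ∨ n = 3 ∨ n = 4 ∨ 5 ≤ n by omega) with rfl | rfl | rfl | h5
  · exact two hp hf hF (h4 rfl) h' hL
  · exact three hp hf hF h' hL
  · exact four hp hf hF h' hL
  · have hsimp := h'.simple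
    exact h'.false_of_has3Out (has3Out_psl h5 (center_eq_bot h'.nonab))

end Cfsg.Agent.H948.SynPSL
end
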